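/-
Copy of SC2/D with one lemma renamed (co-importable with Sig/S4D; never import together with SC2.D).
-/
import Cfsg.Agent.SC2.C
import Cfsg.Agent.Ab2.Fin2
set_option autoImplicit false
set_option linter.unusedSectionVars false

namespace CF.SC2
open Subgroup Cfsg CF.BG CF.Sig CF.GW CF.Ab2
open CF.ZD (LM LM_le mem_LM LM_le_iff LM_mono)
open scoped commutatorElement

universe u
section
variable {G : Type u} {G' : Type*} [Group G] [Finite G] [Group G'] [Finite G'] {σ τ ρ : Set G}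
variable {A B C D E H K L M N P Q S T U V W X Y Z : Subgroup G} {a b d g o s t u v w x y z : G}

theorem LM_ne_bot (hx : x ∈ σ) (m : x ∈ X) (x1 : x ≠ 1) : LM σ X ≠ ⊥ := fun e =>
  x1 (eq_one_of_mem_bot e (mem_LM hx m))

theorem exists_of_LM (h : LM σ X ≠ ⊥) : ∃ x ∈ σ, x ∈ X ∧ x ≠ 1 := by
  by_contra! k
  exact h (le_bot_iff.1 (LM_le_iff.2 fun x a b => k x a b ▸ one_mem _))

theorem SS.ne_bot (h : SS σ X) (hT : Syl 2 T X) (hx : x ∈ σ) (m : x ∈ X) (x1 : x ≠ 1) : LM σ T ≠ ⊥ := by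
  obtain ⟨g, hg, e⟩ := h.into hT hx m
  exact LM_ne_bot (h.conj hx m hg) e (conj_ne_one x1 g)

theorem SS.of_syl (h : SS σ X) (k : SS τ X) (hT : Syl 2 T X) (e : ∀ x ∈ σ, x ∈ T → x ∈ τ) (hx : x ∈ σ)
    (m : x ∈ X) : x ∈ τ := by
  obtain ⟨g, hg, q⟩ := h.into hT hx m
  exact k.of_conj (e _ (h.conj hx m hg) q) m hg

theorem SS.ga (h : SS σ X) (ly : LY.{u}) (e : X ≤ LM σ X) (O : 𝒪 X = ⊥) (hT : Syl 2 T X)
    (a : Abel (LM σ T)) : GA (LM σ T) X :=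
  ⟨h.sa hT a, .inl ly, O, fun N l n => e.trans (LM_le_iff.2 fun x b c => by
    obtain ⟨g, hg, q⟩ := h.into hT b c
    exact mem_of_eq (conj_mem_of_norm' (n hg) (l (mem_LM (h.conj b c hg) q))) (by group))⟩

theorem SS.gd (h : SS σ L) (ly : LY.{u}) (n : NS L) (hT : Syl 2 T L) (a : Abel (LM σ T)) (ne : LM σ T ≠ ⊥) :
    Gd L ∧ LM σ T = 𝛀 2 T :=
  have g := gold (.inl ly) n (h.sa hT a).Om ((hT.pi.le LM_le).Om_ne_bot ne)
  ⟨g, (g.eq_Om n (h.sa hT a) ne hT LM_le).2⟩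

theorem comm_LM [N.Normal] (h : ∀ s ∈ σ, ∀ t ∈ τ, ⁅s, t⁆ ∈ N) : ⁅LM σ ⊤, LM τ ⊤⁆ ≤ N := by
  refine ((Subgroup.map_eq_bot_iff _).1 ?_).trans (QuotientGroup.ker_mk' N).le
  rw [map_commutator, comm_eq_bot, map_LM, map_LM]
  refine LM_le_iff.2 ?_
  rintro _ ⟨s, hs, rfl⟩ -
  refine le_cent1_iff.1 (LM_le_iff.2 ?_)
  rintro _ ⟨t, ht, rfl⟩ -
  refine mem_cent1.2 (commutatorElement_eq_one_iff_mul_comm.1 ?_).symm
  rw [← map_commutatorElement]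
  exact (QuotientGroup.eq_one_iff _).2 (h s hs.1 t ht.1)

theorem CP.le_of_two (h : CP σ τ ⊤) (n : N ⊴ ⊤) (m : M ⊴ ⊤) (k : P2 M) (l : ⁅LM σ ⊤, LM τ ⊤⁆ ≤ N ⊔ M) :
    ⁅LM σ ⊤, LM τ ⊤⁆ ≤ N := by
  haveI := normalIn_top.1 n
  refine comm_LM fun s hs t ht => (QuotientGroup.eq_one_iff _).1 ?_
  have n' := (m.map (QuotientGroup.mk' N)).norm
  have l' := map_mono (f := QuotientGroup.mk' N) l
  rw [Subgroup.map_sup, QuotientGroup.map_mk'_self, bot_sup_eq, map_commutator] at l'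
  have a : ∀ x, zpowers (QuotientGroup.mk' N x) ≤ Subgroup.map (QuotientGroup.mk' N) ⊤ := fun x =>
    zpowers_le.2 (mem_map_of_mem _ (mem_top x))
  exact (map_commutatorElement (QuotientGroup.mk' N) s t).trans (commutatorElement_eq_one_iff_mul_comm.2
    ((h.map _).comm (sup_le (sup_le (map_mono le_top) (a s)) (a t)) (((k.map _).sup ((h.s.e2 hs).map _).zpowers
      (.inr ((a s).trans n'))).sup ((h.t.e2 ht).map _).zpowers (.inr (norm_of_comm_le' (comm_sup_le'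
        ((comm_le_right ((a t).trans n')).trans le_sup_left) ((commutator_comm _ _).le.trans ((commutator_mono
          (zpowers_le.2 (mem_map_of_mem _ (mem_LM hs (mem_top s)))) (zpowers_le.2 (mem_map_of_mem _
            (mem_LM ht (mem_top t))))).trans (l'.trans le_sup_left))) (norm_of_le le_sup_left)
            (norm_of_le le_sup_right))))) ⟨s, ⟨hs, trivial⟩, rfl⟩ ⟨t, ⟨ht, trivial⟩, rfl⟩
      (mem_sup_left (mem_sup_right (mem_zpowers _))) (mem_sup_right (mem_zpowers _))))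

/-- product fusion -/
def PF (σ τ : Set G) (X : Subgroup G) : Prop := ⁅LM σ X, LM τ X⁆ ≤ LM (σ ∩ τ) X ⊔ 𝒪 X

theorem PF.symm (h : PF σ τ X) : PF τ σ X := by rwa [PF, commutator_comm, Set.inter_comm]

/-- the induction hypothesis -/
def IH (n : ℕ) : Prop := ∀ (G : Type u) [Group G] [Finite G] (σ τ : Set G) (X : Subgroup G),
  ♯X < n → CP σ τ X → PF σ τ X

/-- members of `σ` congruent to members of `τ` -/
def md (N : Subgroup G) (σ τ : Set G) : Set G := {s | s ∈ σ ∧ ∃ t ∈ τ, t⁻¹ * s ∈ N}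

theorem CP.md (h : CP σ τ ⊤) [N.Normal] : SS (md N σ τ) ⊤ := by
  convert h.s.inter ((h.t.map (QuotientGroup.mk' N)).comap _ le_rfl) using 1
  ext s
  exact and_congr_right fun hs => ⟨fun ⟨t, a, b⟩ => ⟨h.s.e2 hs, t, ⟨a, trivial⟩, QuotientGroup.eq.2 b⟩,
    fun ⟨_, t, a, b⟩ => ⟨t, a.1, QuotientGroup.eq.1 b⟩⟩

theorem IH.quo (ih : IH.{u} (Nat.card G)) (h : CP σ τ ⊤) (n : N ⊴ ⊤) (n1 : N ≠ ⊥) :
    ∃ Y, N ≤ Y ∧ Y ⊴ ⊤ ∧ PiNat {2}ᶜ (N.relIndex Y) ∧ ⁅LM σ ⊤, LM τ ⊤⁆ ≤ LM (md N σ τ) ⊤ ⊔ Y := by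
  haveI := normalIn_top.1 n
  have hs := QuotientGroup.mk'_surjective N
  have e := map_top_of_surjective _ hs
  have p := ih _ _ _ _ (by
    rw [e, card_top, card_eq_card_quotient_mul_card_subgroup N]
    exact lt_mul_of_one_lt_right Nat.card_pos ((one_lt_card_iff_ne_bot N).2 n1)) (h.map (QuotientGroup.mk' N))
  rw [PF, ← map_LM, ← map_LM, ← map_commutator, e] at p
  haveI := normalIn_top.1 (O_normal {2}ᶜ (⊤ : Subgroup (G ⧸ N)))
  have k := QuotientGroup.ker_mk' N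
  refine ⟨(𝒪 ⊤).comap (QuotientGroup.mk' N), k.ge.trans (ker_le_comap _ _), normalIn_top.2 inferInstance, by
    have := relIndex_ker ((𝒪 ⊤).comap (QuotientGroup.mk' N)) (QuotientGroup.mk' N)
    rw [k, map_comap_eq_self_of_surjective hs] at this
    rw [this]; exact O_pi _ _, le_trans ?_ (comap_map_eq_self ((ker_le_comap _ _).trans le_sup_right)).le⟩
  rw [← map_le_iff_le_comap, Subgroup.map_sup, map_comap_eq_self_of_surjective hs]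
  refine p.trans (sup_le_sup_right (LM_le_iff.2 ?_) _)
  rintro _ ⟨⟨s, hs, rfl⟩, t, ht, q⟩ -
  exact mem_map_of_mem _ (mem_LM ⟨hs.1, t, ht.1, QuotientGroup.eq.1 q⟩ trivial)

theorem md_le (N : Subgroup G) : LM (md N σ τ) ⊤ ≤ LM σ ⊤ := LM_mono' fun _ a _ => a.1

theorem IH.odd (ih : IH.{u} (Nat.card G)) (h : CP σ τ ⊤) (n1 : 𝒪 (⊤ : Subgroup G) ≠ ⊥) : PF σ τ ⊤ := by
  obtain ⟨Y, -, n, i, l⟩ := ih.quo h (O_normal _ _) n1
  refine l.trans (sup_le_sup (LM_mono' fun s ⟨a, t, b, c⟩ _ => ⟨a, ?_⟩) (le_O n ((O_pi _ _).of_relIndex i)))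
  obtain ⟨g, -, e⟩ := exists_cj_le_of_le_sup (le_top.trans (O_normal {2}ᶜ ⊤).norm) (zpowers_le.2 (mem_of_eq
    (mul_mem (mem_sup_right (mem_zpowers t)) (mem_sup_left c)) (mul_inv_cancel_left t s).symm))
    (cop2 (h.s.e2 a).zpowers (O_pi _ _)) (.inr (O_sol _))
  exact h.t.of_conj (h.t.zp b trivial (e (conj_mem_cj.2 (mem_zpowers s)))) trivial trivial

theorem IH.two (ih : IH.{u} (Nat.card G)) (h : CP σ τ ⊤) (O : 𝒪 (⊤ : Subgroup G) = ⊥) (n : M ⊴ ⊤) (k : P2 M)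
    (n1 : M ≠ ⊥) (c : LM σ ⊤ ≤ 𝐂 M) : ⁅LM σ ⊤, LM τ ⊤⁆ ≤ LM (md M σ τ) ⊤ := by
  obtain ⟨Y, lY, nY, i, l⟩ := ih.quo h n n1
  haveI := normalIn_top.1 n
  have n' := (h.md (N := M)).normal le_rfl
  have nZ : 𝐂 M ⊓ Y ⊴ ⊤ := ⟨le_top, norm_inf (norm_cent n.norm) nY.norm⟩
  have d := ((⟨lY, k, i⟩ : Syl 2 M Y).inf_normal ⟨inf_le_right, le_top.trans nZ.norm⟩).dprod_of_cent
    (inf_le_left.trans (cent_anti inf_le_left))
  refine h.le_of_two n' n k ((le_inf ((comm_le_left (le_top.trans (h.s.normal le_rfl).norm)).trans c) l).trans ?_)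
  rw [BG.inf_sup_left ((md_le M).trans c) (.inl (le_top.trans nY.norm)), ← d.sup,
    BG.eq_bot_mono O (O_le_O_of_normal nZ _), sup_bot_eq]
  exact sup_le_sup_left inf_le_left _

theorem CP.cent_norm (h : CP σ τ X) (n : M ⊴ X) (k : P2 M) : LM σ X ≤ 𝐂 (LM τ M) := LM_le_iff.2 fun s a b => by
  have l := zpowers_le.2 b
  exact cent_anti (LM_mono le_sup_left) (h.cent (sup_le n.le l) (k.sup (h.s.e2 a).zpowers (.inr (l.trans n.norm)))
    (mem_LM a (mem_sup_right (mem_zpowers s))))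

theorem IH.case1 (ih : IH.{u} (Nat.card G)) (h : CP σ τ ⊤) (O : 𝒪 (⊤ : Subgroup G) = ⊥)
    (n1 : LM τ (𝐎 {2} ⊤) ≠ ⊥) : PF σ τ ⊤ := by
  have k : P2 (LM τ (𝐎 {2} ⊤)) := (O_pi _ _).le LM_le
  have n : LM τ (𝐎 {2} ⊤) ⊴ ⊤ := ⟨le_top, h.t.norm le_top le_rfl (O_normal _ _).norm⟩
  refine (ih.two h O n k n1 (h.cent_norm (O_normal _ _) (O_pi _ _))).trans (le_sup_of_le_left
    (LM_mono' fun s ⟨a, t, b, c⟩ _ => ⟨a, ?_⟩))
  exact mul_inv_cancel_left t s ▸ h.t.mul le_top (k.sup (h.t.e2 b).zpowers (.inr (le_top.trans n.norm))) b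
    (h.t.mem le_top (O_pi _ _) c) (mem_sup_right (mem_zpowers t)) (mem_sup_left c)

theorem IH.center (ih : IH.{u} (Nat.card G)) (ly : LY.{u}) (h : CP σ τ ⊤) (O : 𝒪 (⊤ : Subgroup G) = ⊥)
    (e : LM σ (𝐎 {2} ⊤) = ⊥) (c : LM σ ⊤ ≤ 𝐂 (𝐎 {2} ⊤)) (k : Comp L ⊤) (l : L ≤ ⁅LM σ ⊤, LM τ ⊤⁆) : 𝐙 L = ⊥ := by
  by_cases n1 : 𝐎 {2} (⊤ : Subgroup G) = ⊥
  · exact BG.eq_bot_mono n1 (k.center_le_O O)
  have n := O_normal {2} (⊤ : Subgroup G)
  haveI := normalIn_top.1 n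
  have s := h.md (N := 𝐎 {2} ⊤)
  obtain ⟨T, hT⟩ := BG.exists_syl 2 (LM (md (𝐎 {2} ⊤) σ τ) ⊤)
  have := (((s.mono le_top).ga ly CF.ZD.LM_LM.ge (BG.eq_bot_mono O (O_le_O_of_normal (s.normal le_rfl) _)) hT
    fun x hx y hy => ?_).aq (k.of_le (l.trans (ih.two h O n (O_pi _ _) n1 c)) le_top)).center_le
  · exact BG.eq_bot_mono e fun x hx => mem_LM (s.mem le_top hT.pi (this hx)).1 (k.center_le_O O hx)
  obtain ⟨-, t, a, b⟩ := s.mem le_top hT.pi hy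
  have hx' := (s.mem le_top hT.pi hx).1
  have h1 := h.comm le_top ((O_pi _ _).sup hT.pi (.inr (le_top.trans n.norm))) hx' a (mem_sup_right (LM_le hx))
    (mem_of_eq (mul_mem (mem_sup_right (LM_le hy)) (inv_mem (mem_sup_left b))) (by group))
  calc _ = t * (t⁻¹ * y * x) := by group
    _ = _ := by rw [c (mem_LM hx' trivial) _ b, ← mul_assoc, ← h1]; group

theorem _root_.CF.Sig.Comp.syl_infK (k : Comp L X) (hT : Syl 2 T X) : Syl 2 (T ⊓ L) L := by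
  have := (hT.inf_normal (Lay_normal X)).inf_normal k.normal_Lay
  rwa [inf_assoc, inf_eq_right.2 k.le_Lay] at this

theorem CP.norm_comp (h : CP σ τ X) (k : Comp L X) (z : 𝐙 L = ⊥) (ht : t ∈ τ) (m : t ∈ L) (t1 : t ≠ 1) :
    LM σ X ≤ 𝐍 L := LM_le_iff.2 fun s a b => by
  obtain ⟨T, hT, sT⟩ := h.s.syl a b
  obtain ⟨x, hx, xT, x1⟩ := exists_of_LM ((h.t.mono k.le).ne_bot (k.syl_infK hT) ht m t1)
  exact cj_eq_self.1 (((k.cj_of_norm (le_norm_self X b)).eq_or_cent k).resolve_right fun c => x1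
    (eq_one_of_mem_bot z (mi xT.2 (c (mem_of_eq (conj_mem_cj.2 xT.2) (by
      rw [h.comm hT.le hT.pi a hx sT xT.1, mul_inv_cancel_right]))))))

theorem SS.meet_comp (h : SS σ X) (k : Comp L X) (n : NS L) (l : L ≤ LM σ X) : ∃ s ∈ σ, s ∈ L ∧ s ≠ 1 := by
  by_contra! e
  have : LM σ X ≤ 𝐍 L := LM_le_iff.2 fun s a b => by_contra fun ns => by
    have c := (k.cj_of_norm (le_norm_self X b)).cent_of_ne k fun q => ns (cj_eq_self.1 q)
    obtain ⟨T, hT, sT⟩ := h.syl a b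
    have hS := k.syl_infK hT
    obtain ⟨x, hx, x1⟩ := exists_mem_ne_one (n.syl_ne hS)
    obtain ⟨g, hg, m, ne⟩ := n.exists_conj hS hx x1
    have u1 := h.comm_mem hT.le hT.pi a sT hx.1
    have w := c (conj_mem_cj.2 hx.2) g hg
    have e1 : g * ⁅s, x⁆ * g⁻¹ = s * x * s⁻¹ * (g * x * g⁻¹)⁻¹ := by
      calc _ = g * (s * x * s⁻¹) * (x⁻¹ * g⁻¹) := by rw [commutatorElement_def]; group
        _ = _ := by rw [w]; group
    have m1 : ⁅s, x⁆ ∈ T := mul_mem (cmem sT hx.1) (inv_mem hx.1)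
    have := e _ (h.mul hT.le hT.pi (h.zp u1 (hT.le m1) (inv_mem (mem_zpowers _))) (h.conj u1 (hT.le m1) (k.le hg))
      (inv_mem m1) (e1 ▸ mul_mem (cmem sT hx.1) (inv_mem m.1))) (mem_of_eq (mul_mem hx.2 (inv_mem m.2))
        (by rw [e1, commutatorElement_def]; group))
    rw [e1, commutatorElement_def] at this
    exact ne (mul_inv_eq_one.1 (Eq.trans (by group) this)).symm
  have c := h.le_Cz k.le LM_le this e
  rw [CF.ZD.LM_LM, Cz_eq n.O] at c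
  exact n.not_abel (l.trans c)

theorem CP.dich (h : CP σ τ L) (ly : LY.{u}) (n : NS L) (hx : x ∈ σ ∩ τ) (m : x ∈ L) (x1 : x ≠ 1) :
    (∀ y ∈ σ, y ∈ L → y ∈ τ) ∨ ∀ y ∈ τ, y ∈ L → y ∈ σ := by
  obtain ⟨Q, hQ⟩ := BG.exists_syl 2 L
  have s := h.s.inter h.t
  have c := h.cent hQ.le hQ.pi
  have l1 : LM (σ ∩ τ) Q ≤ LM σ Q := LM_mono' fun _ a _ => a.1
  have l2 : LM (σ ∩ τ) Q ≤ LM τ Q := LM_mono' fun _ a _ => a.2
  obtain ⟨g, e⟩ := s.gd ly n hQ (l1.trans (c.trans (cent_anti l2))) (s.ne_bot hQ hx m x1)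
  have k : ∀ {ρ}, SS ρ L → LM ρ Q ≤ 𝛀 2 Q → ∀ y ∈ ρ, y ∈ L → y ∈ σ ∩ τ := fun r l _ =>
    r.of_syl s hQ fun y a b => s.mem hQ.le hQ.pi (e.ge (l (mem_LM a b)))
  by_cases ab : Abelem 2 Q
  · exact .inl fun y a b => (k h.s (LM_le.trans ab.Om_eq.ge) y a b).2
  obtain ⟨D, w, z, r⟩ := (g.resolve_right fun q => ab (q.elim (·.ab n hQ) fun q => (q.syl' hQ).1)).rs n hQ
  rcases r.irr ab (e.ge.trans l1) LM_le (h.s.norm hQ.le r.DL r.DQ) with a | a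
  · exact .inl fun y a' b => (k h.s a y a' b).2
  rcases r.irr ab (e.ge.trans l2) LM_le (h.t.norm hQ.le r.DL r.DQ) with b | b
  · exact .inr fun y a' b' => (k h.t b y a' b').1
  exact (r.not_abel ab (a.trans (c.trans (cent_anti b)))).elim

theorem CP.le_sup (h : CP σ τ ⊤) (ly : LY.{u}) (n : NS L) (nL : L ⊴ ⊤) (e : ∀ y ∈ σ, y ∈ L → y ∈ τ)
    (hx : x ∈ σ) (m : x ∈ L) (x1 : x ≠ 1) : LM σ ⊤ ≤ L ⊔ LM (σ ∩ 𝐂 L) ⊤ := LM_le_iff.2 fun s a _ => by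
  have nY : L ⊴ L ⊔ zpowers s := ⟨le_sup_left, le_top.trans nL.norm⟩
  obtain ⟨T, hT, sT⟩ := h.s.syl a (mem_sup_right (mem_zpowers s) : s ∈ L ⊔ zpowers s)
  have l := zpowers_le.2 (mem_LM a sT)
  have c : LM σ T ⊓ L ≤ 𝐂 (LM σ T) := fun y hy => h.symm.cent le_top hT.pi
    (mem_LM (e y (h.s.mem le_top hT.pi hy.1) hy.2) (LM_le hy.1))
  have ab : Abel (LM σ T) := by
    have : LM σ T ≤ LM σ T ⊓ L ⊔ zpowers s :=
      (le_inf le_rfl (LM_le.trans hT.le)).trans (BG.inf_sup_right l (.inr (le_top.trans nL.norm))).le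
    exact (Abel.sup (c.trans (cent_anti inf_le_left)) (abel_zpowers s) (c.trans (cent_anti l))).mono this
  have := (aq_of ((h.s.mono le_top).sa hT ab) (.inl ly) (by
    rw [← O_eq_of_idx nY, n.O]
    rw [compl_compl, relIndex_sup_norm' (.inl (le_top.trans nL.norm))]
    exact (h.s.e2 a).zpowers.relIndex L) (n.comp.trans nY.subN) fun q => by
      obtain ⟨y, b, d, y1⟩ := exists_of_LM ((h.s.mono le_top).ne_bot (hT.inf_normal nY) hx m x1)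
      exact y1 (n.eq_one d.2 (q (mem_LM b d.1)))).cover (mem_LM a sT)
  exact sup_le_sup ((Om_le _ _).trans inf_le_right) (fun y (hy : y ∈ LM σ T ⊓ 𝐂 L) => mem_LM (D := σ ∩ 𝐂 L)
    ⟨h.s.mem le_top hT.pi hy.1, hy.2⟩ (mem_top y)) this

theorem SS.na (h : SS σ L) (k : SS τ L) (ly : LY.{u}) (n : NS L) (i : ∀ x ∈ σ, x ∈ τ → x = 1)
    (a : ∃ s ∈ σ, s ∈ L ∧ s ≠ 1) (b : ∃ s ∈ τ, s ∈ L ∧ s ≠ 1) : NA σ L := by_contra fun na => by
  have c : ∀ {P x y}, P ≤ L → P2 P → x ∈ σ → y ∈ σ → x ∈ P → y ∈ P → x * x = 1 → y * y = 1 → x * y = y * x :=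
    fun {P x y} a b c d e f g j => by
      by_cases x1 : x = 1
      · simp [x1]
      by_cases y1 : y = 1
      · simp [y1]
      exact by_contra fun q => na ⟨P, a, b, x, c, y, d, e, f, .mk' x1 g, .mk' y1 j, q⟩
  have s : SS {x | x ∈ σ ∧ x * x = 1} L := ⟨⟨h.one, mul_one _⟩, fun a => h.e2 a.1, fun {x g} a b c =>
    ⟨h.conj a.1 b c, by rw [show g * x * g⁻¹ * (g * x * g⁻¹) = g * (x * x) * g⁻¹ by group, a.2]; group⟩,
    fun {P x y} a b d e f g => ⟨h.mul a b d.1 e.1 f g, by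
      rw [mul_assoc, ← mul_assoc y, ← c a b d.1 e.1 f g d.2 e.2, mul_assoc, e.2, mul_one, d.2]⟩⟩
  obtain ⟨T, hT⟩ := BG.exists_syl 2 L
  obtain ⟨x, a, xL, x1⟩ := a
  obtain ⟨x, hx, a, ix⟩ := h.exists_iv a xL x1
  obtain ⟨y, b, yL, y1⟩ := b
  obtain ⟨y, b, yT, y1⟩ := exists_of_LM (k.ne_bot hT b yL y1)
  obtain ⟨y, hy, b, iy⟩ := k.exists_iv b (hT.le yT) y1
  have := (s.gd ly n hT (fun x hx y hy => c hT.le hT.pi (s.mem hT.le hT.pi hy).1 (s.mem hT.le hT.pi hx).1 (LM_le hy)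
    (LM_le hx) (s.mem hT.le hT.pi hy).2 (s.mem hT.le hT.pi hx).2) (s.ne_bot hT ⟨a, ix.sq⟩ (zpowers_le.2 xL hx) ix.ne_one)).2
  exact iy.ne_one (i y (s.mem hT.le hT.pi (this.ge (mem_Om (zpowers_le.2 yT hy) ((sq y).trans iy.sq)))).1 b)

theorem IH.step (ih : IH.{u} (Nat.card G)) (ly : LY.{u}) (h : CP σ τ ⊤)
    (ih' : ∀ σ' τ' : Set G, σ'.ncard + τ'.ncard < σ.ncard + τ.ncard → CP σ' τ' ⊤ → PF σ' τ' ⊤) : PF σ τ ⊤ := by
  by_cases O : 𝒪 (⊤ : Subgroup G) = ⊥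
  swap; · exact ih.odd h O
  by_cases e2 : LM τ (𝐎 {2} ⊤) = ⊥
  swap; · exact ih.case1 h O e2
  by_cases e1 : LM σ (𝐎 {2} ⊤) = ⊥
  swap; · exact (ih.case1 h.symm O e1).symm
  have lt : ∀ {H : Subgroup G}, H ≠ ⊤ → PF σ τ H := fun k =>
    ih _ _ _ _ (card_top (G := G) ▸ card_lt (lt_top_iff_ne_top.2 k)) (h.mono le_top)
  have n1 := h.s.normal le_rfl
  have n2 := h.t.normal le_rfl
  have n0 := (h.s.inter h.t).normal le_rfl
  by_cases e : LM σ ⊤ ⊔ LM τ ⊤ = ⊤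
  swap
  · exact (commutator_mono (LM_le_iff.2 fun _ a b => mem_LM a (mem_sup_left (mem_LM a b))) (LM_le_iff.2
      fun _ a b => mem_LM a (mem_sup_right (mem_LM a b)))).trans ((lt e).trans (sup_le_sup (LM_mono le_top)
        (O_le_O_of_normal (n1.sup n2) _)))
  have c : LM σ ⊤ ≤ 𝐂 (𝐎 {2} ⊤) := Cz_eq (O_of_pi' (O_pi {2} (⊤ : Subgroup G)).compl_compl) ▸ h.s.le_Cz le_top le_rfl
    (O_normal _ _).norm fun x a b => eq_one_of_mem_bot e1 (mem_LM a b)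
  have l1 := comm_le_left (le_top.trans n1.norm : LM τ ⊤ ≤ _)
  have l2 := comm_le_right (le_top.trans n2.norm : LM σ ⊤ ≤ _)
  by_cases l : ⁅LM σ ⊤, LM τ ⊤⁆ ≤ 𝐎 {2} ⊤
  · exact (h.le_of_two n0 (O_normal _ _) (O_pi _ _) (l.trans le_sup_right)).trans le_sup_left
  rw [← F_eq_O_of O] at l
  obtain ⟨L, k, l⟩ := exists_comp_le (NormalIn.subN ⟨le_top, norm_commutator n1.norm n2.norm⟩)
    (F_eq_O_of O ▸ l1.trans c) l
  have z := ih.center ly h O e1 c k l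
  have n := Comp.ns k z
  obtain ⟨s, hs, sL, s1⟩ := h.s.meet_comp k n (l.trans l1)
  obtain ⟨t, ht, tL, t1⟩ := h.t.meet_comp k n (l.trans l2)
  have nL : L ⊴ ⊤ := ⟨le_top, e.ge.trans (sup_le (h.norm_comp k z ht tL t1) (h.symm.norm_comp k z hs sL s1))⟩
  have g : ∀ {ρ : Set G} {x}, SS ρ ⊤ → x ∈ ρ → x ∈ L → x ≠ 1 → LM ρ L = L := fun r a b c =>
    (n.eq_or _ (r.normal le_top)).resolve_left (LM_ne_bot a b c)
  obtain ⟨x, hx, xL, x1⟩ : ∃ x ∈ σ ∩ τ, x ∈ L ∧ x ≠ 1 := by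
    by_contra! i
    by_cases q : L = ⊤
    · subst q
      have i' := fun x a b => i x ⟨a, b⟩ trivial
      exact main n h i' (fun H q => (lt q).trans (sup_le (LM_le_iff.2 fun x a _ => i x a trivial ▸ one_mem _) le_rfl))
        (h.s.na h.t ly n i' ⟨s, hs, sL, s1⟩ ⟨t, ht, tL, t1⟩)
        (h.t.na h.s ly n (fun x a b => i' x b a) ⟨t, ht, tL, t1⟩ ⟨s, hs, sL, s1⟩)
    have := lt q
    rw [PF, g h.s hs sL s1, g h.t ht tL t1, n.perf, n.O, sup_bot_eq] at this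
    exact n.ne (le_bot_iff.1 (this.trans (LM_le_iff.2 fun x a b => i x a b ▸ one_mem _)))
  have fin : ∀ {σ τ : Set G}, CP σ τ ⊤ → x ∈ σ ∩ τ → (∀ y ∈ σ, y ∈ L → y ∈ τ) →
      (CP (σ ∩ 𝐂 L) τ ⊤ → (σ ∩ 𝐂 L).ncard < σ.ncard → PF (σ ∩ 𝐂 L) τ ⊤) → PF σ τ ⊤ := fun {σ τ} h hx i j => by
    have n0 := ((h.s.inter h.t).normal le_rfl).sup (O_normal {2}ᶜ ⊤)
    exact (commutator_mono (h.le_sup ly n nL i hx.1 xL x1) le_rfl).trans (comm_sup_le
      ((comm_le_left (le_top.trans nL.norm)).trans (le_sup_of_le_left ((g (h.s.inter h.t) hx xL x1).ge.trans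
        (LM_mono le_top)))) ((j (h.sub (h.s.inter_norm (norm_cent nL.norm)) Set.inter_subset_left)
        (Set.ncard_lt_ncard ((Set.ssubset_iff_of_subset Set.inter_subset_left).2
          ⟨x, hx.1, fun q => x1 (n.eq_one xL q.2)⟩) (Set.toFinite _))).trans
        (sup_le_sup_right (LM_mono' fun _ a _ => Set.mem_inter a.1.1 a.2) _)) (le_top.trans n0.norm) (le_top.trans n0.norm))
  rcases (h.mono le_top).dich ly n hx xL x1 with i | i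
  · exact fin h hx i fun a b => ih' _ _ (by omega) a
  · exact (fin h.symm hx.symm i fun a b => ih' _ _ (by omega) a).symm

theorem CP.sub_top (h : CP σ τ X) : CP {x : X | E2 x ∧ X.subtype x ∈ σ} {x : X | E2 x ∧ X.subtype x ∈ τ} ⊤ :=
  ⟨h.s.comap _ (map_subtype_le _), h.t.comap _ (map_subtype_le _), fun _ b c d e f => Subtype.ext
    (h.comm (map_subtype_le _) (b.map _) c.2 d.2 (mem_map_of_mem _ e) (mem_map_of_mem _ f))⟩

theorem SS.le_map (h : SS σ X) : LM σ X ≤ (LM {x : X | E2 x ∧ X.subtype x ∈ σ} ⊤).map X.subtype :=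
  LM_le_iff.2 fun x a b => ⟨⟨x, b⟩, mem_LM ⟨by simpa [PiElt] using h.e2 a, a⟩ trivial, rfl⟩
end

theorem ih_all (ly : LY.{u}) (n : ℕ) : IH.{u} n := by
  induction n with
  | zero => exact fun _ _ _ _ _ _ h => absurd h (Nat.not_lt_zero _)
  | succ n ih =>
    intro G _ _ σ τ X c h
    have key : ∀ m (σ τ : Set X), σ.ncard + τ.ncard < m → CP σ τ ⊤ → PF σ τ ⊤ := fun m => by
      induction m with
      | zero => exact fun _ _ h => absurd h (Nat.not_lt_zero _)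
      | succ m ihm =>
        exact fun σ τ a b => IH.step (fun G _ _ σ τ Y d => ih G σ τ Y (by omega)) ly b
          fun σ' τ' d => ihm σ' τ' (by omega)
    have := map_mono (f := X.subtype) (key _ _ _ (Nat.lt_succ_self _) h.sub_top)
    rw [map_commutator, Subgroup.map_sup, ← O_map_subtype, map_top_subtype] at this
    exact (commutator_mono h.s.le_map h.t.le_map).trans (this.trans (sup_le_sup_right (map_le_iff_le_comap.2
      (LM_le_iff.2 fun x a _ => mem_LM (Set.mem_inter a.1.2 a.2.2) x.2)) _))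

theorem CP.pf {G : Type u} [Group G] [Finite G] {σ τ : Set G} {X : Subgroup G} (h : CP σ τ X) (ly : LY.{u}) :
    ⁅LM σ X, LM τ X⁆ ≤ LM (σ ∩ τ) X ⊔ 𝒪 X := ih_all ly _ G σ τ X (Nat.lt_succ_self _) h

end CF.SC2
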