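import Cfsg.Agent.Kf.SC0
import Cfsg.Agent.Known.Inv.Sp.Co3

set_option autoImplicit false
set_option maxRecDepth 1000000

namespace CF.Kf.SC.Co3

open CF.Comp CF.Fisch CF.Bt CF.KI CF.KI.Co3 CF.Leech
open scoped Pointwise

noncomputable def st : List (List Nat × List Nat × List Nat) := [([13, 15, 13, 15, 14, 5, 12, 18, 2, 16, 1], [1], [7, 9, 11]), ([20, 22, 15, 18, 13, 20, 13, 15, 9, 15, 8, 22, 1, 20], [3], [11, 15]), ([19, 19, 18, 15, 13, 16, 10, 19, 7, 5, 13, 4, 16, 19], [5], [1, 3, 7]), ([20, 20, 16, 20, 13, 18, 11, 9, 14, 7, 20, 12, 1, 13, 2], [7], [1, 13]), ([25, 21, 18, 12, 19, 16, 8, 8, 11, 1, 18, 3, 3, 21, 2, 6, 17, 8, 14, 10, 20, 15, 15, 19, 19, 23, 27, 31, 41], [7, 5, 1], [5, 9, 11, 15, 17])]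
noncomputable def fn : List (List Nat) := [[7, 5, 3, 5], [1, 3, 1, 9, 7, 5], [3, 7, 1, 3], [3, 7, 1, 9, 3, 1], [7, 1, 3, 7, 1, 3], [1, 7, 9, 1, 9], [5, 3, 7, 5, 3], [7, 9, 1, 9, 7, 1], [7, 3, 7, 3], [11]]
noncomputable def v : List Nat := [17]
noncomputable def VT : Bt.Tr := (.sym [[1], [3], [5]] (.cons [] 5 24 (.op 4 0 (.focus 0 (.cons [] 0 24 (.base (nat_lit 0x662998d64dc53c4ac4c4acbc510fa00d8c21268b3540460d512d5c5470112754a4015) (.op 10 0 (.focus 0 (.op 2 0 (.xor 0 2 (.focus 0 (.sym [[7], [9], [11]] (.cons [] 2 1 (.focus 3 (.op 4 0 (.focus 0 (.cons [] 0 1 (.focus 6 (.xor 4 5 (.focus 0 (.base (nat_lit 0x200000000100140080000800100400090400040000000400012104006011041020000) (.focus 0 (.base (nat_lit 0x84646280008802002280002889012022208500408a08010a0c020a283c04089030a2) (.op 10 0 (.xor 8 0 (.focus 0 (.op 4 2 (.op 10 0 (.xor 11 0 (.focus 0 (.cons [] 0 1 (.focus 7 (.focus 8 (.op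 4 0 (.focus 0 (.cons [] 0 1 (.focus 8 (.op 10 20 (.focus 0 (.cons [] 0 1 .triv .nil)))) .nil))))) (.cons [4, 4] 0 0 (.base (nat_lit 0x200000001000000000000000000000000000000080000800000) (.op 8 0 (.and 1 0 (.dead 0)))) (.cons [2, 3] 0 0 (.base (nat_lit 0x40000000000000020800000800000002000000000000100000000000000000000a0) (.op 10 19 (.and 1 0 (.dead0 0)))) (.cons [4, 7, 4] 0 0 (.base (nat_lit 0x200000001000000000000000000000000000000080000800000) (.op 8 0 (.and 1 0 (.dead 0)))) .nil))))))))))))))))) .nil)))) (.cons [14, 3] 2 0 (.base (nat_lit 0x91902101b232439539135341266049f051d68970c21f39e20e128309042a982258f48) (.op 10 6 (.and 1 0 (.dead0 0)))) (.cons [10, 4] 2 0 (.op 5 0 (.op 8 0 (.and 1 0 (.base (nat_lit 0x91902101b232439539135341266049f051d68970c21f39e20e128309042a982258f48) (.and 1 0 (.dead 0)))))) (.cons [13, 1] 2 0 (.base (nat_lit 0x91902101b232439539135341266049f051d68970c21f39e20e128309042a982258f48)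 (.op 10 6 (.and 1 0 (.dead0 0)))) .nil))))))))))) .nil))) (.cons [4] 2 0 (.op 8 0 (.and 1 0 (.dead0 0))) (.cons [3] 3 0 (.op 11 0 (.and 1 0 (.dead0 0))) (.cons [15, 4] 3 0 (.op 5 0 (.and 1 0 (.dead0 0))) (.cons [22, 2] 2 0 (.op 5 0 (.and 1 0 (.dead0 0))) .nil))))))
noncomputable def VTK : List (List Nat) := [[6, 17, 2, 6, 6, 21, 19, 12, 18, 14, 19, 17], [1, 4, 16, 6, 16, 11, 11, 13, 15, 14, 19, 14, 15, 19, 17, 19, 19], [8, 10, 3, 21, 12, 7, 11, 14, 10, 17, 14, 15, 14, 15, 14, 20, 15, 15, 20, 22, 19, 19], [16, 13, 12, 14, 16, 14, 16, 14, 22], [18, 9, 16, 14, 19, 14, 21, 16, 20, 22, 19, 19], [11, 10, 11, 9, 20, 14, 19, 14, 16, 17, 19, 21, 19, 19, 19]]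
noncomputable def VTF : List (List Nat) := [[], [1], [3], [3, 1]]
noncomputable def cV : List Lvl := [⟨0, [[6, 17, 2, 6, 6, 21, 19, 12, 18, 14, 19, 17], [1, 4, 16, 6, 16, 11, 11, 13, 15, 14, 19, 14, 15, 19, 17, 19, 19], [6, 4, 12, 7, 14, 11, 14, 20, 20, 17, 20]], 4⟩, ⟨1, [[8, 10, 3, 21, 12, 7, 11, 14, 9, 15, 13, 19, 14, 19, 17, 19, 19], [14, 1, 9, 6, 6, 17, 10, 13, 15, 14, 19, 14, 19, 17, 22]], 4⟩]
noncomputable def ts : List (List Nat) := [[6, 17, 2, 6, 6, 21, 19, 12, 18, 14, 19, 17], [1, 4, 16, 6, 16, 11, 11, 13, 15, 14, 19, 14, 15, 19, 17, 19, 19], [6, 4, 12, 7, 14, 11, 14, 20, 20, 17, 20], [8, 10, 3, 21, 12, 7, 11, 14, 9, 15, 13, 19, 14, 19, 17, 19, 19], [14, 1, 9, 6, 6, 17, 10, 13, 15, 14, 19, 14, 19, 17, 22], [5, 11, 1, 16, 8, 8, 11, 9, 15, 14, 15, 14, 19, 14, 20, 20, 17, 19, 19, 19, 19, 19], [2, 9, 2, 13, 7, 7, 16, 12, 18, 14, 15, 14, 15, 14, 16, 20, 20], [17, 16, 3,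 9, 6, 7, 18, 9, 13, 19, 14, 15, 19, 19]]
noncomputable def tb : List (List (Nat × List Nat)) := [[(0, [1]), (0, [3]), (0, [5]), (0, [7]), (0, [9]), (0, [11]), (0, [13]), (0, [15]), (0, [17]), (0, [19]), (1, []), (2, []), (3, []), (4, []), (5, [])], [(1, [19, 17, 15, 9, 7]), (1, [13, 9, 7, 3, 1]), (3, [17, 15, 13, 11, 7, 5, 1]), (1, [19, 17, 15, 11, 7]), (1, [19, 17, 11, 7, 1]), (1, [11]), (1, [13, 11]), (1, [15]), (1, [17]), (1, [19]), (0, [19, 17, 15, 11]), (5, [17, 15, 9, 5, 1]), (1, [13, 11, 9, 5, 1]), (6, []), (7, [])], [(2, [17, 15, 9, 7]), (8, []), (4, [19, 13]), (2, [7, 1]), (2, [19, 13, 9, 7]), (2, [15, 13, 11, 9]), (2, [15, 7, 1]), (2, [17, 15, 13, 7]), (2, [17]), (2, [19]), (8, [19, 17, 11, 9, 7, 5, 3]), (4, [15, 11, 9, 5]), (6, [19, 15, 13, 11, 7, 5]), (2, [11, 5]), (8, [15, 11, 9, 3])], [(3, [17, 15, 1]), (3, [19, 15, 11, 3]), (1, [19, 13, 9, 7, 5, 1]), (3, [19,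 17, 15, 13, 11, 7]), (3, [19, 17, 15, 11, 9, 7, 1]), (3, [19, 17, 13]), (3, [19, 11]), (3, [15]), (3, [17]), (3, [19]), (3, [17, 13, 9, 7, 5]), (7, [19, 17, 11, 7, 1]), (0, [19, 17, 13, 7, 1]), (8, [9, 3]), (2, [19, 15, 13, 11, 9, 7, 5])], [(4, [19, 13, 7, 1]), (7, [19, 13, 7, 3, 1]), (2, [19, 17, 15, 13, 7, 1]), (4, [19, 17, 15, 13, 1]), (4, [13, 9, 7]), (4, [17, 13, 11, 9, 7, 1]), (4, [17, 15, 7, 1]), (4, [19, 17, 15, 13, 7]), (4, [17]), (4, [19]), (5, [19, 15, 11, 9, 1]), (0, [13, 7, 5, 1]), (7, [19, 17, 15, 13, 11, 9, 7, 5, 1]), (0, []), (1, [19, 15, 11])], [(5, [19, 13, 9, 1]), (6, [17, 13, 11, 3]), (6, [17, 15, 13, 11, 5, 1]), (5, [13, 11, 9]), (5, [15, 13, 11, 9, 1]), (5, [17, 13, 11, 9, 7, 1]), (5, [15, 13, 11, 9]), (5, [19, 17, 15, 13, 7]), (5, [17]), (5, [19]), (4, [17]), (8, [19, 9, 3, 1]), (8, [19, 13, 11, 7, 5, 3]), (7, [17, 9, 1]), (6, [17])], [(6, [19, 13, 9]),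 (5, [19, 13, 11, 7, 3, 1]), (5, [13, 5, 1]), (6, [19, 13, 11, 9, 7]), (6, [19, 15, 13, 11, 1]), (6, [19, 17, 13, 9, 7, 1]), (6, [19, 17, 15, 11, 9]), (6, [13, 7]), (6, [17]), (6, [19]), (7, [17, 9, 1]), (3, [17, 11, 9, 7, 5, 1]), (2, [19, 13, 11, 9, 5]), (1, []), (0, [17])], [(7, [19, 17, 15, 13, 9, 1]), (4, [19, 15, 11, 9, 7, 3, 1]), (8, [15, 9, 7, 3, 1]), (7, [17, 13, 11, 7, 1]), (7, [19, 17, 13, 11, 9, 1]), (7, [19, 17, 13, 9, 7, 1]), (7, [17, 15, 13, 11, 7, 1]), (7, [13, 7]), (7, [17]), (7, [19]), (6, [17]), (6, [19, 13, 11, 7, 5, 1]), (4, [17, 13, 11, 9, 7, 5]), (5, [17, 9, 1]), (4, [19, 15, 11])], [(8, [19, 11, 7, 1]), (2, [19, 13, 11, 9, 7, 1]), (7, [19, 17, 15, 13, 9, 3]), (8, [19, 17, 15, 13, 1]), (8, [15, 13, 9, 1]), (8, [17, 15, 13, 11, 9]), (8, [17, 15, 7, 1]), (8, [17, 15, 13, 7]), (8, [19, 17]), (8, [19]), (2, [17, 15, 11, 9, 5, 3]), (1, [17, 13, 11, 5, 3]), (5,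 [17, 15, 11, 9, 7, 5, 3, 1]), (3, [19, 11, 9, 3]), (3, [15, 13, 11, 7, 5, 3])]]
noncomputable def nn : List (List Nat × List Nat × Nat × Nat) := [([7, 5, 1], [13, 11, 5, 3], 2, 3), ([17, 13, 5], [15, 7, 5, 1], 1, 3), ([15, 13, 5], [7, 5, 1], 2, 3), ([17, 9, 3], [17, 11, 3], 1, 3), ([11, 9, 7, 5], [17, 9, 5, 1], 1, 3), ([17, 5], [19, 17, 5], 1, 3), ([13, 7, 3], [3, 1], 2, 3), ([19, 3], [15, 9, 3], 1, 3)]

theorem z1 : zOK e gs Y10 a0 = true := by decide +kernel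
theorem z2 : Bt.scOK e gs st fn [a0] = true := by decide +kernel
theorem z3 : vOK e gs Y10 a0 (subst gs v) = true := by decide +kernel
theorem z4 : ordOK e 2 (subst gs v) = true := by decide +kernel
theorem z5 : e (subst gs v) a0 = false := by decide +kernel
theorem z6 : Bt.stdS (lapp X X1) 276 9 c [a0, subst gs v] [a0, subst gs v] [] [] VTF VTK VT 4608 = true := by decide +kernel
theorem z7 : comOK e (cgens cV) [a0, subst gs v] = true := by decide +kernel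
theorem z8 : Bt.geOK (lapp X X1) 276 cV 4608 = true := by decide +kernel
theorem z9 : Bt.snOK e (fun u w => Bool.rec true false (e u w)) 2 (lapp gs (cgens cV)) gs ts tb nn = true := by decide +kernel

theorem kf {K : Type*} [Group K] (φ : K ≃* Cfsg.Spor.Co3) : KF K := by
  obtain ⟨hE, -⟩ := Bt.Exact.fresh dExact (by decide) (fun w _ => ev_mem (slp_mem dMem Dat.dW (llen Dat.dY)) w) h1 (m := 2) rfl h2 (card_stab_48 nm_V) h3
  have hf := slp_mem (Bt.evs_mem (ws := ws) (fun w _ => ev_mem (slp_mem dMem Dat.dW (llen Dat.dY)) w)) W 2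
  replace hE := Bt.exact_sub_top hE hf
  have := Bt.Exact.finite_top hE
  have he := isSm_eqM hE.reps (by decide) (Exact.based hE fun _ => trivial) e1 e2 e3
  have hS := cenS_of hE he rfl s1 s2 s3
  have h := stS he hS (Cl.zero _) l0
  replace h := stS he hS h l1
  replace h := stS he hS h l2
  replace h := stS he hS h l3
  replace h := stS he hS h l4
  replace h := stS he hS h l5
  replace h := stS he hS h l6
  replace h := stS he hS h l7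
  replace h := stS he hS h l8
  replace h := stS he hS h l9
  have hb := bs he hS (by decide) h z1 z2
  exact kf_fs hS (fs_v he hb h z3 z4 z5 (cent_eq hE he (by decide) (by decide) z6 z7 z8) z9) (m := 484147125) ((card_stab_48 nm_V).trans (by decide +kernel)) (by norm_num) (φ.trans Co3Equiv.symm)

end CF.Kf.SC.Co3
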